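import Groth.Agent.H16Derived.GenAmpleGamma
import Groth.Agent.H16Derived.MVPush.Main

/-!
# `Hom(O[-i], E) = H^i(RΓ E)`, naturally
-/

set_option autoImplicit false
set_option linter.style.haveILetI false
set_option backward.isDefEq.respectTransparency false
set_option maxHeartbeats 1000000

universe u

open CategoryTheory CategoryTheory.Limits AlgebraicGeometry Opposite
open CochainComplex.HomComplex

attribute [local instance] HasDerivedCategory.standard

noncomputable section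

namespace Groth.Agent.H02CA.PtDual

open Groth.Agent.H11Tilde Groth.Agent.H11Ample Groth.Agent.H10Coh
open Groth.Agent.H16Derived Groth.Agent.H16Derived.QCohD

variable (X : Scheme.{u}) [DCoh.HasRΓ X]

/-- `Γ` termwise. -/
abbrev gCx : CochainComplex X.Modules ℤ ⥤ CochainComplex AddCommGrpCat.{u} ℤ :=
  (DCoh.gammaAb X).mapHomologicalComplex (ComplexShape.up ℤ)

/-- `Γ C ⟶ RΓ C`. -/
def unitQ : gCx X ⋙ DerivedCategory.Q ⟶ DerivedCategory.Q ⋙ DCoh.RΓ X :=
  Functor.whiskerLeft (gCx X) (DerivedCategory.quotientCompQhIso AddCommGrpCat.{u}).inv ≫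
    Functor.whiskerRight ((DCoh.gammaAb X).mapHomotopyCategoryFactors (ComplexShape.up ℤ)).inv DerivedCategory.Qh ≫
    Functor.whiskerLeft (HomotopyCategory.quotient X.Modules (ComplexShape.up ℤ))
      (KFlat.GammaAcyclic.gammaUnit X) ≫
    Functor.whiskerRight (DerivedCategory.quotientCompQhIso X.Modules).hom (DCoh.RΓ X)

theorem isIso_unitQ (I : CochainComplex X.Modules ℤ) [I.IsKInjective] : IsIso ((unitQ X).app I) := by
  haveI := KFlat.GammaAcyclic.isIso_gammaUnit X I
  dsimp [unitQ]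
  infer_instance

/-- `H^i Γ C ⟶ H^i RΓ C`. -/
def unitH (i : ℤ) : gCx X ⋙ HomologicalComplex.homologyFunctor AddCommGrpCat.{u} (ComplexShape.up ℤ) i ⟶
    DerivedCategory.Q ⋙ DCoh.RΓ X ⋙ DerivedCategory.homologyFunctor AddCommGrpCat.{u} i :=
  Functor.whiskerLeft (gCx X) (DerivedCategory.homologyFunctorFactors AddCommGrpCat.{u} i).inv ≫
    Functor.whiskerRight (unitQ X) (DerivedCategory.homologyFunctor AddCommGrpCat.{u} i)

theorem isIso_unitH (i : ℤ) (I : CochainComplex X.Modules ℤ) [I.IsKInjective] : IsIso ((unitH X i).app I) := by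
  haveI := isIso_unitQ X I
  dsimp [unitH]
  infer_instance

/-- The source. -/
abbrev S (i : ℤ) : CochainComplex X.Modules ℤ :=
  (CochainComplex.singleFunctor X.Modules i).obj (freeSh (⊤ : X.Opens))

variable {X}

theorem exists_class (G : CochainComplex AddCommGrpCat.{u} ℤ) (i : ℤ) (y : G.homology i) :
    ∃ z : G.cycles i, G.homologyπ i z = y :=
  (AddCommGrpCat.epi_iff_surjective (G.homologyπ i)).1 inferInstance y

theorem exists_cycle (G : CochainComplex AddCommGrpCat.{u} ℤ) (i : ℤ) (x : G.X i) (hx : G.d i (i + 1) x = 0) :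
    ∃ z : G.cycles i, G.iCycles i z = x := by
  have h := (ShortComplex.exact_of_f_is_kernel (ShortComplex.mk (G.iCycles i) (G.d i (i + 1)) (G.iCycles_d i (i + 1)))
    (G.cyclesIsKernel i (i + 1) (by simp)))
  exact (ShortComplex.ab_exact_iff _).1 h x hx

theorem exists_boundary (G : CochainComplex AddCommGrpCat.{u} ℤ) (i : ℤ) (z : G.cycles i)
    (hz : G.homologyπ i z = 0) : ∃ w : G.X (i - 1), G.d (i - 1) i w = G.iCycles i z := by
  have h := (ShortComplex.exact_of_g_is_cokernel (ShortComplex.mk (G.toCycles (i - 1) i) (G.homologyπ i)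
    (G.toCycles_comp_homologyπ (i - 1) i)) (G.homologyIsCokernel (i - 1) i (by simp)))
  obtain ⟨w, hw⟩ := (ShortComplex.ab_exact_iff _).1 h z hz
  refine ⟨w, ?_⟩
  rw [← G.toCycles_i (i - 1) i, ConcreteCategory.comp_apply]
  exact congrArg (G.iCycles i) hw

variable (X)

/-- The unit section. -/
def x₀ (i : ℤ) : ((gCx X).obj (S X i)).X i :=
  ((HomologicalComplex.singleObjXSelf (ComplexShape.up ℤ) i (freeSh (⊤ : X.Opens))).inv.app ⊤)
    (freeShEquiv ⊤ _ (𝟙 _))

theorem d_x₀ (i : ℤ) : ((gCx X).obj (S X i)).d i (i + 1) (x₀ X i) = 0 := by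
  show ((DCoh.gammaAb X).map ((S X i).d i (i + 1))) (x₀ X i) = 0
  rw [(HomologicalComplex.isZero_single_obj_X (ComplexShape.up ℤ) i _ _ (by omega : i + 1 ≠ i)).eq_of_tgt
    ((S X i).d i (i + 1)) 0, Functor.map_zero]
  rfl

/-- The unit class. -/
def z₀ (i : ℤ) : ((gCx X).obj (S X i)).cycles i :=
  (exists_cycle _ i (x₀ X i) (d_x₀ X i)).choose

theorem iCycles_z₀ (i : ℤ) : ((gCx X).obj (S X i)).iCycles i (z₀ X i) = x₀ X i :=
  (exists_cycle _ i (x₀ X i) (d_x₀ X i)).choose_spec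

/-- `O[-i]`. -/
abbrev SD (i : ℤ) : DCoh.D X := DerivedCategory.Q.obj (S X i)

/-- Evaluation at the unit class. -/
def evalUnit (i : ℤ) (E : DCoh.D X) (φ : SD X i ⟶ E) :
    (DerivedCategory.homologyFunctor AddCommGrpCat.{u} i).obj ((DCoh.RΓ X).obj E) :=
  (DerivedCategory.homologyFunctor AddCommGrpCat.{u} i).map ((DCoh.RΓ X).map φ)
    ((unitH X i).app (S X i) (((gCx X).obj (S X i)).homologyπ i (z₀ X i)))

theorem evalUnit_comp (i : ℤ) {E E' : DCoh.D X} (φ : SD X i ⟶ E) (g : E ⟶ E') :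
    evalUnit X i E' (φ ≫ g) =
      (DerivedCategory.homologyFunctor AddCommGrpCat.{u} i).map ((DCoh.RΓ X).map g) (evalUnit X i E φ) := by
  show (DerivedCategory.homologyFunctor AddCommGrpCat.{u} i).map ((DCoh.RΓ X).map (φ ≫ g)) _ = _
  rw [Functor.map_comp, Functor.map_comp]
  rfl

theorem evalUnit_Q (i : ℤ) {C : CochainComplex X.Modules ℤ} (ψ : S X i ⟶ C) :
    evalUnit X i _ (DerivedCategory.Q.map ψ) =
      (unitH X i).app C (((gCx X).obj C).homologyπ i (HomologicalComplex.cyclesMap ((gCx X).map ψ) i (z₀ X i))) := by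
  refine (congr($((unitH X i).naturality ψ) (((gCx X).obj (S X i)).homologyπ i (z₀ X i)))).symm.trans ?_
  exact congrArg ((unitH X i).app C) (congr($(HomologicalComplex.homologyπ_naturality ((gCx X).map ψ) i) (z₀ X i)))

theorem iCycles_map (i : ℤ) {C : CochainComplex X.Modules ℤ} (ψ : S X i ⟶ C) :
    ((gCx X).obj C).iCycles i (HomologicalComplex.cyclesMap ((gCx X).map ψ) i (z₀ X i)) =
      freeShEquiv ⊤ (C.X i) ((HomologicalComplex.singleObjXSelf (ComplexShape.up ℤ) i _).inv ≫ ψ.f i) := by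
  refine (congr($(HomologicalComplex.cyclesMap_i ((gCx X).map ψ) i) (z₀ X i))).trans ?_
  show ((gCx X).map ψ).f i (((gCx X).obj (S X i)).iCycles i (z₀ X i)) = _
  rw [iCycles_z₀]
  conv_rhs => rw [← Category.id_comp ((HomologicalComplex.singleObjXSelf (ComplexShape.up ℤ) i _).inv ≫ ψ.f i), freeShEquiv_comp]
  rfl

theorem evalUnit_surjective_rep (i : ℤ) (I : CochainComplex X.Modules ℤ) [I.IsKInjective]
    (y : (DerivedCategory.homologyFunctor AddCommGrpCat.{u} i).obj ((DCoh.RΓ X).obj (DerivedCategory.Q.obj I))) :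
    ∃ φ, evalUnit X i _ φ = y := by
  haveI := isIso_unitH X i I
  obtain ⟨y, rfl⟩ := (ConcreteCategory.bijective_of_isIso ((unitH X i).app I)).2 y
  obtain ⟨z, rfl⟩ := exists_class _ i y
  let x : Γ(I.X i, ⊤) := ((gCx X).obj I).iCycles i z
  have hx : (I.d i (i + 1)).app ⊤ x = 0 := congr($(((gCx X).obj I).iCycles_d i (i + 1)) z)
  let f : freeSh (⊤ : X.Opens) ⟶ I.X i := (freeShEquiv ⊤ _).symm x
  have hf : f ≫ I.d i (i + 1) = 0 := (freeShEquiv ⊤ _).injective (by
    have h0 : freeShEquiv ⊤ _ (0 : freeSh (⊤ : X.Opens) ⟶ I.X (i + 1)) = 0 := by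
      rw [← Limits.zero_comp (f := (0 : I.X (i + 1) ⟶ I.X (i + 1))) (X := freeSh (⊤ : X.Opens)), freeShEquiv_comp]
      rfl
    rw [h0, freeShEquiv_comp, Equiv.apply_symm_apply]
    exact hx)
  let ψ : S X i ⟶ I := HomologicalComplex.mkHomFromSingle f (fun k hk => by
    obtain rfl : i + 1 = k := hk
    exact hf)
  refine ⟨DerivedCategory.Q.map ψ, (evalUnit_Q X i ψ).trans (congrArg ((unitH X i).app I) ?_)⟩
  refine congrArg (((gCx X).obj I).homologyπ i) ?_
  apply (AddCommGrpCat.mono_iff_injective (((gCx X).obj I).iCycles i)).1 inferInstance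
  rw [iCycles_map, show ψ.f i = (HomologicalComplex.singleObjXSelf (ComplexShape.up ℤ) i _).hom ≫ f from
    HomologicalComplex.mkHomFromSingle_f _ _, Iso.inv_hom_id_assoc]
  exact (freeShEquiv ⊤ _).apply_symm_apply x

theorem exists_rep_hom (i : ℤ) (I : CochainComplex X.Modules ℤ) [I.IsKInjective]
    (φ : SD X i ⟶ DerivedCategory.Q.obj I) : ∃ ψ : S X i ⟶ I, φ = DerivedCategory.Q.map ψ := by
  let q := DerivedCategory.quotientCompQhIso X.Modules
  obtain ⟨g, hg⟩ := (CochainComplex.IsKInjective.Qh_map_bijective ((HomotopyCategory.quotient _ _).obj (S X i)) I).2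
    ((q.app (S X i)).hom ≫ φ ≫ (q.app I).inv)
  obtain ⟨ψ, rfl⟩ := (HomotopyCategory.quotient _ _).map_surjective g
  refine ⟨ψ, ?_⟩
  have h1 := (q.hom.naturality ψ)
  simp only [Functor.comp_map] at h1
  rw [hg] at h1
  simp [Iso.app] at h1
  exact h1

theorem eq_zero_of_evalUnit (i : ℤ) (I : CochainComplex X.Modules ℤ) [I.IsKInjective] (ψ : S X i ⟶ I)
    (h : evalUnit X i _ (DerivedCategory.Q.map ψ) = 0) : DerivedCategory.Q.map ψ = 0 := by
  let q := DerivedCategory.quotientCompQhIso X.Modules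
  rw [evalUnit_Q] at h
  haveI := isIso_unitH X i I
  obtain ⟨w, hw⟩ := exists_boundary _ i _ ((ConcreteCategory.bijective_of_isIso ((unitH X i).app I)).1
    (h.trans (map_zero ((unitH X i).app I).hom).symm))
  rw [iCycles_map] at hw
  let f' : freeSh (⊤ : X.Opens) ⟶ I.X (i - 1) := (freeShEquiv ⊤ _).symm w
  let z : Cochain (S X i) I (-1) := Cochain.fromSingleMk f' (by omega)
  have hz : Cochain.ofHom ψ = δ (-1) 0 z + Cochain.ofHom 0 := by
    rw [Cochain.ofHom_zero, add_zero, Cochain.δ_fromSingleMk f' _ 0 i (by omega)]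
    refine (Cochain.fromSingleEquiv (add_zero i)).injective ?_
    rw [Cochain.fromSingleEquiv_fromSingleMk]
    show (HomologicalComplex.singleObjXSelf (ComplexShape.up ℤ) i _).inv ≫ (Cochain.ofHom ψ).v i i _ = _
    rw [Cochain.ofHom_v]
    refine (freeShEquiv ⊤ _).injective (hw.symm.trans ?_)
    rw [freeShEquiv_comp, Equiv.apply_symm_apply]
    rfl
  have h0 : (HomotopyCategory.quotient _ _).map ψ = 0 := by
    rw [HomotopyCategory.eq_of_homotopy _ _ ((Cochain.equivHomotopy ψ 0).symm ⟨z, hz⟩), Functor.map_zero]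
  have h2 := q.hom.naturality ψ
  simp only [Functor.comp_map, h0, Functor.map_zero, zero_comp] at h2
  exact ((cancel_epi (q.hom.app (S X i))).1 (h2.symm.trans comp_zero.symm))

theorem evalUnit_Q_sub (i : ℤ) {C : CochainComplex X.Modules ℤ} (ψ ψ' : S X i ⟶ C) :
    evalUnit X i _ (DerivedCategory.Q.map (ψ - ψ')) =
      evalUnit X i _ (DerivedCategory.Q.map ψ) - evalUnit X i _ (DerivedCategory.Q.map ψ') := by
  rw [evalUnit_Q, evalUnit_Q, evalUnit_Q, Functor.map_sub]
  refine (congrArg (fun t => (unitH X i).app C (((gCx X).obj C).homologyπ i t)) ?_).trans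
    ((congrArg ((unitH X i).app C).hom (map_sub (((gCx X).obj C).homologyπ i).hom
      (HomologicalComplex.cyclesMap ((gCx X).map ψ) i (z₀ X i))
      (HomologicalComplex.cyclesMap ((gCx X).map ψ') i (z₀ X i)))).trans (map_sub ((unitH X i).app C).hom _ _))
  apply (AddCommGrpCat.mono_iff_injective (((gCx X).obj C).iCycles i)).1 inferInstance
  rw [map_sub, ← ConcreteCategory.comp_apply, ← ConcreteCategory.comp_apply, ← ConcreteCategory.comp_apply,
    HomologicalComplex.cyclesMap_i, HomologicalComplex.cyclesMap_i, HomologicalComplex.cyclesMap_i,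
    HomologicalComplex.sub_f_apply, Preadditive.comp_sub]
  rfl

theorem bijective_evalUnit (i : ℤ) (E : DCoh.D X) : Function.Bijective (evalUnit X i E) := by
  obtain ⟨I, hI, -, ⟨e⟩⟩ := MVPush.exists_rep E
  haveI := hI
  refine ⟨fun φ φ' h => (cancel_mono e.inv).1 ?_, fun y => ?_⟩
  · obtain ⟨ψ, hψ⟩ := exists_rep_hom X i I (φ ≫ e.inv)
    obtain ⟨ψ', hψ'⟩ := exists_rep_hom X i I (φ' ≫ e.inv)
    rw [hψ, hψ', ← sub_eq_zero, ← Functor.map_sub]
    refine eq_zero_of_evalUnit X i I _ ?_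
    rw [evalUnit_Q_sub, ← hψ, ← hψ', evalUnit_comp, evalUnit_comp, h, sub_self]
  · obtain ⟨φ, hφ⟩ := evalUnit_surjective_rep X i I
      ((DerivedCategory.homologyFunctor AddCommGrpCat.{u} i).map ((DCoh.RΓ X).map e.inv) y)
    refine ⟨φ ≫ e.hom, ?_⟩
    rw [evalUnit_comp, hφ, ← ConcreteCategory.comp_apply, ← Functor.map_comp, ← Functor.map_comp, e.inv_hom_id,
      CategoryTheory.Functor.map_id, CategoryTheory.Functor.map_id]
    rfl

/-- `Hom(O[-i], E) ≃ H^i(RΓ E)`. -/
def homEquivRΓ (i : ℤ) (E : DCoh.D X) :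
    (SD X i ⟶ E) ≃ (DerivedCategory.homologyFunctor AddCommGrpCat.{u} i).obj ((DCoh.RΓ X).obj E) :=
  Equiv.ofBijective _ (bijective_evalUnit X i E)

theorem homEquivRΓ_comp (i : ℤ) {E E' : DCoh.D X} (φ : SD X i ⟶ E) (g : E ⟶ E') :
    homEquivRΓ X i E' (φ ≫ g) =
      (DerivedCategory.homologyFunctor AddCommGrpCat.{u} i).map ((DCoh.RΓ X).map g) (homEquivRΓ X i E φ) :=
  evalUnit_comp X i φ g

end Groth.Agent.H02CA.PtDual
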