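import Groth.Agent.H02CA.PtDual.Stalk
import Groth.Agent.H02CA.Sky.Basic
import Groth.Agent.H22Alg.CohSupport

/-!
# The dual of a coherent module supported at a regular closed point
-/

set_option autoImplicit false
set_option linter.style.haveILetI false
set_option backward.isDefEq.respectTransparency false
set_option maxHeartbeats 1000000

universe u

open CategoryTheory CategoryTheory.Limits AlgebraicGeometry TopologicalSpace
open Groth.Agent.H16Derived Groth.Agent.H16Derived.KFlat Groth.Agent.H16Derived.KFlat.Stalk Groth.Agent.H06Mod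
open Groth.Agent.H02CA.Sky
open Groth.Agent.H4DR.Ext (Ex)

attribute [local instance] HasDerivedCategory.standard

noncomputable section

namespace Groth.Agent.H02CA.PtDual

variable {X : Scheme.{u}} {x : X}

/-- A module living at a closed point is the skyscraper on its stalk. -/
theorem isIso_homOfStalk (hx : IsClosed ({x} : Set X)) {M : X.Modules} (hM : CohB1.support M ⊆ {x})
    {N : Type u} [AddCommGroup N] [Module (X.presheaf.stalk x) N]
    (ψ : M.presheaf.stalk x ≃ₗ[X.presheaf.stalk x] N) : IsIso (homOfStalk ψ.toLinearMap) := by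
  let η := homOfStalk ψ.toLinearMap
  show IsIso η
  refine isIso_of_stalk _ fun y => ?_
  by_cases hy : y = x
  · subst hy
    have hinj : ∀ a, stalkOfHom (𝟙 (sky y N)) a = 0 → a = 0 := by
      intro a ha
      obtain ⟨O, hO, s, rfl⟩ := TopCat.Presheaf.exists_germ_eq (sky y N).presheaf a
      rw [stalkOfHom_germ] at ha
      have : s = 0 := skyEval_ext y N fun _ => ha.trans (map_zero _).symm
      rw [this, map_zero]
    have key : ∀ b, stalkOfHom (𝟙 (sky y N)) ((DerSch.stalkFunctor X y).map η b) = ψ b := by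
      intro b
      obtain ⟨O, hO, s, rfl⟩ := TopCat.Presheaf.exists_germ_eq M.presheaf b
      change stalkOfHom (𝟙 (sky y N)) (Algz.stalkMapAb η y (M.presheaf.germ O y hO s)) = _
      rw [show Algz.stalkMapAb η y (M.presheaf.germ O y hO s) =
        (sky y N).presheaf.germ O y hO (η.app O s) from H10Coh.germ_app η O y hO s,
        stalkOfHom_germ]
      rfl
    refine (ConcreteCategory.isIso_iff_bijective _).2 ⟨fun a b h => ψ.injective ?_, fun a => ?_⟩
    · rw [← key a, ← key b, h]
    · refine ⟨ψ.symm (stalkOfHom (𝟙 (sky y N)) a), sub_eq_zero.1 (hinj _ ?_)⟩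
      refine (map_sub (stalkOfHom (𝟙 (sky y N))).hom _ _).trans (sub_eq_zero.2 ?_)
      exact (key _).trans (ψ.apply_symm_apply _)
  · haveI : Subsingleton (M.presheaf.stalk y) := not_not.1 fun h => hy (hM h)
    haveI := subsingleton_stalk_of_sections (M := sky x N) (fun _ h => subsingleton_sky h) hx hy
    exact isIso_of_source_target_iso_zero _
      (@ModuleCat.isZero_of_subsingleton _ _ _ ‹Subsingleton (M.presheaf.stalk y)›).isoZero
      (@ModuleCat.isZero_of_subsingleton _ _ _ ‹Subsingleton ((sky x N).presheaf.stalk y)›).isoZero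

/-- Modules living at a closed point with isomorphic stalks are isomorphic. -/
theorem nonempty_iso_of_stalk (hx : IsClosed ({x} : Set X)) {M M' : X.Modules} (hM : CohB1.support M ⊆ {x})
    (hM' : CohB1.support M' ⊆ {x}) (ψ : M.presheaf.stalk x ≃ₗ[X.presheaf.stalk x] M'.presheaf.stalk x) :
    Nonempty (M ≅ M') :=
  haveI := isIso_homOfStalk hx hM ψ
  haveI := isIso_homOfStalk hx hM' (LinearEquiv.refl _ (M'.presheaf.stalk x))
  ⟨asIso (homOfStalk ψ.toLinearMap) ≪≫
    (asIso (homOfStalk (LinearEquiv.refl (X.presheaf.stalk x) (M'.presheaf.stalk x)).toLinearMap)).symm⟩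

/-- `RHom(F, O) = F'[-d]`. -/
theorem nonempty_ro_iso [IsLocallyNoetherian X] (hreg : ∀ y : X, IsRegularLocalRing (X.presheaf.stalk y))
    (hdim : ∀ V : X.Opens, IsAffineOpen V → ringKrullDim Γ(X, V) < ⊤)
    (hx : IsClosed ({x} : Set X)) (d : ℕ) (hd : ringKrullDim (X.presheaf.stalk x) = d)
    (E : Type u) [AddCommGroup E] [Module (X.presheaf.stalk x) E]
    (ι : IsLocalRing.ResidueField (X.presheaf.stalk x) →ₗ[X.presheaf.stalk x] E) (hι : InjHull.IsInjectiveHull ι)
    (F F' : X.Modules) (hF : Coh.IsCoh F) (hsF : CohB1.support F ⊆ {x}) (hsF' : CohB1.support F' ⊆ {x})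
    (e : F'.presheaf.stalk x ≃ₗ[X.presheaf.stalk x] (F.presheaf.stalk x →ₗ[X.presheaf.stalk x] E)) :
    Nonempty (Dual.ro (DCoh.inD X F) ≅ (shiftFunctor (DCoh.D X) (-(d : ℤ))).obj (DCoh.inD X F')) := by
  let K := Dual.ro (DCoh.inD X F)
  haveI := hreg x
  have hfl : IsFiniteLength (X.presheaf.stalk x) (F.presheaf.stalk x) :=
    Module.length_ne_top_iff.1 (H22Alg.CohSupport.length_stalk_lt_top F hF x fun y hy _ =>
      hsF fun h => not_subsingleton_iff_nontrivial.2 hy h).ne
  obtain ⟨hvan, ⟨eTop⟩⟩ := ex_finiteLength (X.presheaf.stalk x) d hd E ι hι (F.presheaf.stalk x) hfl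
  have stalk : ∀ (y : X) (i : ℤ), Nonempty ((DCoh.HD K i).presheaf.stalk y ≃ₗ[X.presheaf.stalk y]
      Ex (Dual.inD (X.presheaf.stalk y) (F.presheaf.stalk y))
        (Dual.inD (X.presheaf.stalk y) (X.presheaf.stalk y)) i) := fun y i => by
    obtain ⟨V, hV, hyV, -⟩ := exists_isAffineOpen_mem_and_subset (x := y) (U := (⊤ : X.Opens)) trivial
    exact nonempty_stalk_ro hV hyV hreg (hdim V hV) F hF i
  have hoff : ∀ (i : ℤ) (y : X), y ≠ x → Subsingleton ((DCoh.HD K i).presheaf.stalk y) := fun i y hy => by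
    haveI : Subsingleton (F.presheaf.stalk y) := not_not.1 fun h => hy (hsF h)
    haveI := H4DR.Ext.subsingleton_ex_of_subsingleton (A := X.presheaf.stalk y) (F.presheaf.stalk y)
      ((Dual.inD (X.presheaf.stalk y) (X.presheaf.stalk y))⟦i⟧)
    exact (stalk y i).some.injective.subsingleton
  have hz : ∀ i : ℤ, i ≠ d → IsZero (DCoh.HD K i) := fun i hi => isZero_of_stalk fun y => by
    have : Subsingleton ((DCoh.HD K i).presheaf.stalk y) := by
      by_cases hy : y = x
      · subst hy
        haveI := hvan i hi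
        exact (stalk y i).some.injective.subsingleton
      · exact hoff i y hy
    exact @ModuleCat.isZero_of_subsingleton _ _ ((DerSch.stalkFunctor X y).obj (DCoh.HD K i)) this
  haveI : DerivedCategory.IsGE K (d : ℤ) := (DerivedCategory.isGE_iff _ _).2 fun i hi => hz i hi.ne
  haveI : DerivedCategory.IsLE K (d : ℤ) := (DerivedCategory.isLE_iff _ _).2 fun i hi => hz i hi.ne'
  obtain ⟨G, ⟨eG⟩⟩ := DerivedCategory.exists_iso_singleFunctor_obj_of_isGE_of_isLE K (d : ℤ)
  let eGH : G ≅ DCoh.HD K d :=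
    ((DerivedCategory.singleFunctorCompHomologyFunctorIso _ (d : ℤ)).app G).symm ≪≫
      (DerivedCategory.homologyFunctor _ (d : ℤ)).mapIso eG.symm
  obtain ⟨eH⟩ := nonempty_iso_of_stalk hx (M := DCoh.HD K d) (M' := F')
    (fun y hy => by_contra fun h => hy (hoff d y h)) hsF'
    ((stalk x d).some.trans (eTop.trans e.symm))
  exact ⟨eG ≪≫ (DerivedCategory.singleFunctor X.Modules (d : ℤ)).mapIso (eGH ≪≫ eH) ≪≫
    (((DerivedCategory.singleFunctors X.Modules).shiftIso (-(d : ℤ)) (d : ℤ) 0 (by omega)).app F').symm⟩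

end Groth.Agent.H02CA.PtDual
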