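import Groth.Agent.S1749
import Groth.Agent.H4PSDepth.Basic
import Groth.Agent.H4DR.Dualizing.Prime

/-!
# Duality for finite length modules over a regular local ring, after a flat base change
-/

set_option autoImplicit false
set_option linter.style.haveILetI false
set_option backward.isDefEq.respectTransparency false

universe u

open CategoryTheory
open Groth.Agent.H4DR Groth.Agent.H4DR.Ext Groth.Agent.H4DR.Dualizing
open scoped TensorProduct

attribute [local instance] HasDerivedCategory.standard

namespace Groth.Agent.H02CA.PtDual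

/-- `Ext^i(N, R)` of a module of finite length over a regular local ring. -/
theorem ex_finiteLength (R : Type u) [CommRing R] [IsRegularLocalRing R] (d : ℕ) (hd : ringKrullDim R = d)
    (E : Type u) [AddCommGroup E] [Module R E] (f : IsLocalRing.ResidueField R →ₗ[R] E)
    (hf : InjHull.IsInjectiveHull f) (N : Type u) [AddCommGroup N] [Module R N] (hN : IsFiniteLength R N) :
    (∀ i : ℤ, i ≠ d → Subsingleton (Ex (Dual.inD R N) (Dual.inD R R) i)) ∧
      Nonempty (Ex (Dual.inD R N) (Dual.inD R R) d ≃ₗ[R] (N →ₗ[R] E)) := by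
  haveI := H4Goren.isGorensteinLocalRing_of_isRegularLocalRing R
  obtain ⟨hω, hn⟩ := H4PSDepth.isNormalized_self (T := R) hd
  obtain ⟨h1, ⟨h2⟩⟩ := S1749.result R _ hω hn E f hf N hN
  refine ⟨fun i hi => ?_, ⟨h2⟩⟩
  · haveI := h1 (i - d) (by omega)
    exact (addLin (Dual.inD R N) (Dual.inD R R) (d : ℤ) (i - d) i (by omega)).symm.injective.subsingleton

variable {A : Type u} [CommRing A] [IsNoetherianRing A] (R : Type u) [CommRing R] [Algebra A R]
  [Module.Flat A R]

/-- The dualizing complex `A` base changes to `R`. -/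
noncomputable def fdSelf : (FlatBC.FD A R).obj (Dual.inD A A) ≅ Dual.inD R R :=
  ((FlatBC.F A R).mapDerivedCategorySingleFunctor 0).app (ModuleCat.of A A) ≪≫
    (DerivedCategory.singleFunctor (ModuleCat.{u} R) 0).mapIso
      ((FlatBC.toFₗ R (ModuleCat.of A A)).symm.trans (TensorProduct.AlgebraTensorModule.rid A R R)).toModuleIso

/-- `R ⊗ Ext^i(N, A) = Ext^i(R ⊗ N, R)`. -/
theorem nonempty_tensor_ex (hω : Dual.IsDualizing A (Dual.inD A A)) (N : Type u) [AddCommGroup N] [Module A N]
    [Module.Finite A N] (M : Type u) [AddCommGroup M] [Module R M] (e : M ≃ₗ[R] R ⊗[A] N) (i : ℤ) :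
    Nonempty (R ⊗[A] Ex (Dual.inD A N) (Dual.inD A A) i ≃ₗ[R] Ex (Dual.inD R M) (Dual.inD R R) i) :=
  ⟨(exModuleBC (B := R) hω N i).trans ((exCongr (A := R) (e.trans (FlatBC.toFₗ R (ModuleCat.of A N))) _).trans
    (postIso _ ((shiftFunctor (Dual.D R) i).mapIso (fdSelf R))))⟩

end Groth.Agent.H02CA.PtDual
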