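import Groth.Agent.H02CA.PtDual.Ring
import Groth.Agent.H4RSH.Invertible
import Groth.Agent.H10Coh.TensorTilde
import Groth.Agent.H29Blow.QCohLoc
import Groth.Agent.H29Fitt.Sheaf
import Groth.Agent.H16Derived.KFlat.PerfRegular
import Groth.Agent.LeadBrown.RHomPull
import Groth.Agent.LeadBrown.ShriekTensor
import Groth.Agent.H16Derived.FMKWit.Main
import Groth.Agent.H4RSH.Gorenstein

/-!
# Stalks of the dual of a coherent module on a regular scheme
-/

set_option autoImplicit false
set_option linter.style.haveILetI false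
set_option backward.isDefEq.respectTransparency false
set_option maxHeartbeats 1000000
set_option synthInstance.maxHeartbeats 400000

universe u

open CategoryTheory CategoryTheory.Limits AlgebraicGeometry TopologicalSpace
open Groth.Agent.H16Derived Groth.Agent.H16Derived.KFlat.Stalk
open Groth.Agent.H4DR.Ext (Ex)
open scoped TensorProduct

attribute [local instance] HasDerivedCategory.standard

noncomputable section

namespace Groth.Agent.H02CA.PtDual

variable {X : Scheme.{u}}

/-- Sections over an affine open, computed on the spectrum. -/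
theorem nonempty_sections_equiv (M : X.Modules) {V : X.Opens} (hV : IsAffineOpen V) :
    Nonempty (Γ(M, V) ≃ₗ[Γ(X, V)] (H10Coh.ΓSpec Γ(X, V)).obj (M.restrict hV.fromSpec)) := by
  have htop : hV.fromSpec ''ᵁ ⊤ = V := by
    rw [Scheme.Hom.image_top_eq_opensRange, hV.opensRange_fromSpec]
  let φ : M.presheaf.obj (.op V) ⟶ Γ(M.restrict hV.fromSpec, (⊤ : (Spec Γ(X, V)).Opens)) :=
    M.presheaf.map (homOfLE htop.le).op ≫ (M.restrictAppIso hV.fromSpec ⊤).inv
  haveI : IsIso (homOfLE htop.le) := ⟨homOfLE htop.ge, Subsingleton.elim _ _, Subsingleton.elim _ _⟩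
  have hφ : IsIso φ := inferInstance
  refine ⟨LinearEquiv.ofBijective
    { toFun := fun s => φ s
      map_add' := fun a b => map_add φ.hom a b
      map_smul' := fun a s => ?_ } (ConcreteCategory.bijective_of_isIso φ)⟩
  have h1 : M.presheaf.map (homOfLE htop.le).op (a • s) =
      X.presheaf.map (homOfLE htop.le).op a • M.presheaf.map (homOfLE htop.le).op s := Scheme.Modules.map_smul M _ a s
  rw [← H29Blow.res_eq_appIso_inv hV htop.le] at h1
  exact congrArg (M.restrictAppIso hV.fromSpec ⊤).inv h1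

variable [IsLocallyNoetherian X] {V : X.Opens} (hV : IsAffineOpen V) {y : X} (hy : y ∈ V)

/-- The stalk of a quasi-coherent module with a model on the affine open. -/
theorem nonempty_stalk_tensor (M : X.Modules) (hM : Coh.IsQCoh M) (H : ModuleCat.{u} Γ(X, V))
    (e : M.restrict hV.fromSpec ≅ (tilde.functor Γ(X, V)).obj H) :
    letI := TopCat.Presheaf.algebra_section_stalk X.presheaf (⟨y, hy⟩ : V)
    Nonempty (M.presheaf.stalk y ≃ₗ[X.presheaf.stalk y] X.presheaf.stalk y ⊗[Γ(X, V)] H) := by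
  letI := TopCat.Presheaf.algebra_section_stalk X.presheaf (⟨y, hy⟩ : V)
  letI : Module Γ(X, V) (M.presheaf.stalk y) :=
    Module.compHom (M.presheaf.stalk y) (algebraMap Γ(X, V) (X.presheaf.stalk y))
  haveI : IsScalarTower Γ(X, V) (X.presheaf.stalk y) (M.presheaf.stalk y) :=
    .of_algebraMap_smul fun _ _ => rfl
  let P := (hV.primeIdealOf ⟨y, hy⟩).asIdeal.primeCompl
  haveI : IsLocalizedModule P (H29Fitt.germLin M (⟨y, hy⟩ : V)) :=
    H29Fitt.isLocalizedModule_germLin M hM hV ⟨y, hy⟩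
  haveI : IsLocalization P (X.presheaf.stalk y) := hV.isLocalization_stalk ⟨y, hy⟩
  have hb := IsLocalizedModule.isBaseChange P (X.presheaf.stalk y) (H29Fitt.germLin M (⟨y, hy⟩ : V))
  obtain ⟨σ⟩ := nonempty_sections_equiv M hV
  let i : (H10Coh.ΓSpec Γ(X, V)).obj (M.restrict hV.fromSpec) ≅ H :=
    (H10Coh.ΓSpec Γ(X, V)).mapIso e ≪≫
      (@asIso _ _ _ _ ((tilde.adjunction (R := Γ(X, V))).unit.app H) (NatIso.isIso_app_of_isIso _ _)).symm
  exact ⟨hb.equiv.symm.trans (LinearEquiv.baseChange Γ(X, V) (X.presheaf.stalk y) _ _ (σ.trans i.toLinearEquiv))⟩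

include hV hy in
/-- The stalks of `H^i(RHom(F, O))` are `Ext^i` of the stalks. -/
theorem nonempty_stalk_ro (hreg : ∀ x : X, IsRegularLocalRing (X.presheaf.stalk x))
    (hdim : ringKrullDim Γ(X, V) < ⊤) (F : X.Modules) (hF : Coh.IsCoh F) (i : ℤ) :
    Nonempty ((DCoh.HD (Dual.ro (DCoh.inD X F)) i).presheaf.stalk y ≃ₗ[X.presheaf.stalk y]
      Ex (Dual.inD (X.presheaf.stalk y) (F.presheaf.stalk y))
        (Dual.inD (X.presheaf.stalk y) (X.presheaf.stalk y)) i) := by
  letI := TopCat.Presheaf.algebra_section_stalk X.presheaf (⟨y, hy⟩ : V)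
  let A : CommRingCat.{u} := Γ(X, V)
  haveI : IsNoetherianRing A := IsLocallyNoetherian.component_noetherian ⟨V, hV⟩
  haveI : IsLocalization.AtPrime (X.presheaf.stalk y) (hV.primeIdealOf ⟨y, hy⟩).asIdeal :=
    hV.isLocalization_stalk ⟨y, hy⟩
  haveI : Module.Flat A (X.presheaf.stalk y) :=
    IsLocalization.flat (X.presheaf.stalk y) (hV.primeIdealOf ⟨y, hy⟩).asIdeal.primeCompl
  haveI : PreservesFiniteLimits (tilde.functor A) := QCohD.preservesFiniteLimits_tilde_of _
  let j : Spec A ⟶ X := hV.fromSpec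
  haveI : IsOpenImmersion j := hV.isOpenImmersion_fromSpec
  have hA : Dual.IsDualizing A (Dual.inD A A) :=
    H4DR.Dualizing.isDualizing_self_of_regular hdim fun p => by
      obtain ⟨e⟩ := H4DualSch.exists_stalk_ringEquiv j p
      haveI := hreg (j.base p)
      exact IsRegularLocalRing.of_ringEquiv e.symm
  haveI : F.IsQuasicoherent := hF.1
  haveI hq : (F.restrict j).IsQuasicoherent := Scheme.Modules.isQuasicoherent_restrictFunctor j F
  let N : ModuleCat.{u} A := (H10Coh.ΓSpec A).obj (F.restrict j)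
  let eF : F.restrict j ≅ (tilde.functor A).obj N := (@H10Coh.tildeIso _ (F.restrict j) hq).symm
  haveI : Module.Finite A N := by
    obtain ⟨σ⟩ := nonempty_sections_equiv F hV
    haveI : Module.Finite Γ(X, V) Γ(F, V) := ((H10Coh.isCoh_iff_finite_sections F).1 hF).2 V hV
    exact Module.Finite.equiv σ
  obtain ⟨eFy⟩ := nonempty_stalk_tensor hV hy F hF.1 N eF
  have hk : DCoh.IsPerfect (DCoh.inD X F) := isPerfect_inD_of_isCoh hreg hF
  -- the restriction
  obtain ⟨D, hD, ⟨eD⟩⟩ := H4RSH.exists_dual_ex (A := A) (Dual.inD A N) (Dual.inD A A) (fun l => by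
    rcases eq_or_ne l 0 with rfl | hl
    · exact Module.Finite.equiv (H4DR.DComplete.e0 (ModuleCat.of A N)).symm
    · haveI := H4DR.PCoh.subsingleton_HD_inD (ModuleCat.of A N) l hl
      infer_instance) (H4RSH.hfid hA)
  haveI := QCohD.hasRpush j
  haveI := KFlat.Stalk.hasLpull j
  haveI := LeadBrown.isIso_wR j hk (Dual.one X)
  let ρ := LeadBrown.rdIsoLpull j
  let e₁ : (rd j).obj (DCoh.inD X F) ≅ (DCoh.tildeD A).obj (Dual.inD A N) :=
    (((Scheme.Modules.restrictFunctor j).mapDerivedCategorySingleFunctor 0).app F) ≪≫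
      (DerivedCategory.singleFunctor _ 0).mapIso eF ≪≫
      (((tilde.functor A).mapDerivedCategorySingleFunctor 0).app N).symm
  let e₂ : (rd j).obj (Dual.one X) ≅ (DCoh.tildeD A).obj (Dual.inD A A) :=
    (rd j).mapIso Dual.oneIso.symm ≪≫
      (((Scheme.Modules.restrictFunctor j).mapDerivedCategorySingleFunctor 0).app (Coh.structureModule X)) ≪≫
      (DerivedCategory.singleFunctor _ 0).mapIso
        ((Scheme.Modules.restrictFunctorIsoPullback j).app _ ≪≫ structurePullbackIso j ≪≫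
          (AlgebraicGeometry.tildeSelf (R := A)).symm) ≪≫
      (((tilde.functor A).mapDerivedCategorySingleFunctor 0).app (ModuleCat.of A A)).symm
  let eR : (rd j).obj (Dual.ro (DCoh.inD X F)) ≅ (DCoh.tildeD A).obj D :=
    ρ.app _ ≪≫ asIso (LeadBrown.wR j (DCoh.inD X F) (Dual.one X)) ≪≫
      (Dual.RIso ((ρ.app _).symm ≪≫ e₁)).app _ ≪≫ (Dual.R _).mapIso ((ρ.app _).symm ≪≫ e₂) ≪≫ eD
  let eH : (DCoh.HD (Dual.ro (DCoh.inD X F)) i).restrict j ≅ (tilde.functor A).obj (KFlat.Stalk.hA D i) :=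
    (homologyRdIso j _ i).symm ≪≫ (DerivedCategory.homologyFunctor _ i).mapIso eR ≪≫ hdTilde D i
  have hqH : Coh.IsQCoh (DCoh.HD (Dual.ro (DCoh.inD X F)) i) :=
    (FMKWit.isCohD_of_isPerfect (Dual.isPerfect_ro hk) i).1
  obtain ⟨e₃⟩ := nonempty_stalk_tensor hV hy _ hqH (KFlat.Stalk.hA D i) eH
  obtain ⟨e₄⟩ := nonempty_tensor_ex (X.presheaf.stalk y) hA N (F.presheaf.stalk y) eFy i
  exact ⟨e₃.trans ((LinearEquiv.baseChange A (X.presheaf.stalk y) _ _ (hD i).some).trans e₄)⟩

end Groth.Agent.H02CA.PtDual
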