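import Groth.Agent.H02CA.Sibling.TwistD
import Groth.Agent.H25FM.ProjT
import Groth.Agent.H16Derived.KFlat.SheafTri

/-!
# `- ⊗^L (G[n]) = (- ⊗^L G)[n]`, naturally
-/

set_option autoImplicit false
set_option linter.style.haveILetI false
set_option backward.isDefEq.respectTransparency false
set_option maxHeartbeats 1000000

universe u

open CategoryTheory CategoryTheory.Limits CategoryTheory.Functor AlgebraicGeometry

attribute [local instance] HasDerivedCategory.standard

noncomputable section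

namespace Groth.Agent.H02CA.PtDual

open Groth.Agent.H16Derived Groth.Agent.H16Derived.KFlat Groth.Agent.H16Derived.KFlat.Stalk
open Groth.Agent.H16Derived.ProjFormula Groth.Agent.H25FM

variable {X : Scheme.{u}}

/-- Shift of the second factor, naturally in the first. -/
def flipShiftIso (E : CochainComplex X.Modules ℤ) (n : ℤ) :
    (DCoh.tensorCx (X := X)).flip.obj (E⟦n⟧) ≅
      (DCoh.tensorCx (X := X)).flip.obj E ⋙ shiftFunctor (CochainComplex X.Modules ℤ) n :=
  NatIso.ofComponents (fun K => ((DCoh.tensorCx (X := X)).obj K).commShiftIso n |>.app E)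
    (fun {K L} f => by
      exact (NatTrans.shift_app_comm ((DCoh.tensorBi (X := X)).map₂CochainComplex.map f) n E).symm)

/-- `- ⊗ G` is the total complex with `G[0]`, naturally. -/
def tensorOneIso (G : X.Modules) :
    (DCoh.tensorRightMod G).mapHomologicalComplex (ComplexShape.up ℤ) ≅
      (DCoh.tensorCx (X := X)).flip.obj (one G) :=
  NatIso.mapHomologicalComplex (tensorRightModIso G ≪≫ (DCoh.tensorBi (X := X)).flip.mapIso
      (HomologicalComplex.singleObjXSelf (ComplexShape.up ℤ) 0 G).symm) (ComplexShape.up ℤ) ≪≫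
    NatIso.ofComponents (fun W => singleLeftIso (DCoh.tensorBi (X := X)).flip (one G) W (one_isZero G))
      (fun {W W'} f => by
        refine HomologicalComplex.hom_ext _ _ fun n => ?_
        exact (ι_tot_map (F := (DCoh.tensorBi (X := X)).flip) (one G) f 0 n n (zero_add n)).symm) ≪≫
    tensorCxFlipIso (one G)

/-- `- ⊗^L (G[n]) = (- ⊗^L G)[n]`. -/
theorem nonempty_TFlip_shift (G : X.Modules) [DCoh.HasLTensorMod G] (n : ℤ) :
    Nonempty ((Dual.T X).flip.obj ((shiftFunctor (DCoh.D X) n).obj (DCoh.inD X G)) ≅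
      DCoh.LTensorMod G ⋙ shiftFunctor (DCoh.D X) n) := by
  let E := one G
  let ρl : CochainComplex X.Modules ℤ ⥤ (lkflat X).FullSubcategory := (lkflat X).lift res isKFlat_flip_res
  let eres : (res (X := X) ⋙ DerivedCategory.Q) ≅ DerivedCategory.Q :=
    haveI : ∀ P, IsIso ((Functor.whiskerRight (resψ (X := X)) DerivedCategory.Q).app P) := fun P =>
      H16Derived.KFlat.Stalk.isIso_Q_map _ (quasiIso_resψ P)
    haveI := NatIso.isIso_of_isIso_app (Functor.whiskerRight (resψ (X := X)) DerivedCategory.Q)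
    asIso (Functor.whiskerRight (resψ (X := X)) DerivedCategory.Q) ≪≫ DerivedCategory.Q.leftUnitor
  haveI : ∀ P, IsIso ((Functor.whiskerLeft (res (X := X)) (Dual.εFst (E⟦n⟧))).app P) := fun P =>
    Dual.isIso_ε _ (E⟦n⟧) (Or.inl (isKFlat_flip_res P))
  haveI := NatIso.isIso_of_isIso_app (Functor.whiskerLeft (res (X := X)) (Dual.εFst (E⟦n⟧)))
  let eT : (res (X := X) ⋙ DerivedCategory.Q) ⋙ (Dual.T X).flip.obj (DerivedCategory.Q.obj (E⟦n⟧)) ≅
      res ⋙ (DCoh.tensorCx (X := X)).flip.obj (E⟦n⟧) ⋙ DerivedCategory.Q :=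
    asIso (Functor.whiskerLeft (res (X := X)) (Dual.εFst (E⟦n⟧)))
  let eL : (res (X := X) ⋙ DerivedCategory.Q) ⋙ DCoh.LTensorMod G ≅
      res ⋙ (DCoh.tensorRightMod G).mapHomologicalComplex (ComplexShape.up ℤ) ⋙ DerivedCategory.Q :=
    isoWhiskerLeft ρl (ltensorModIso G)
  let eM : (DCoh.tensorCx (X := X)).flip.obj (E⟦n⟧) ⋙ DerivedCategory.Q ≅
      ((DCoh.tensorRightMod G).mapHomologicalComplex (ComplexShape.up ℤ) ⋙ DerivedCategory.Q) ⋙
        shiftFunctor (DCoh.D X) n :=
    isoWhiskerRight (flipShiftIso E n ≪≫ isoWhiskerRight (tensorOneIso G).symm _) DerivedCategory.Q ≪≫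
      isoWhiskerLeft ((DCoh.tensorRightMod G).mapHomologicalComplex (ComplexShape.up ℤ))
        (DerivedCategory.Q.commShiftIso n)
  let e' : DerivedCategory.Q ⋙ (Dual.T X).flip.obj (DerivedCategory.Q.obj (E⟦n⟧)) ≅
      DerivedCategory.Q ⋙ (DCoh.LTensorMod G ⋙ shiftFunctor (DCoh.D X) n) :=
    isoWhiskerRight eres.symm _ ≪≫ eT ≪≫ isoWhiskerLeft res eM ≪≫ isoWhiskerRight eL.symm _ ≪≫
      isoWhiskerRight eres (DCoh.LTensorMod G ⋙ shiftFunctor (DCoh.D X) n)
  obtain ⟨e⟩ := nonempty_of_Q _ _ e'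
  exact ⟨(Dual.T X).flip.mapIso ((shiftFunctor (DCoh.D X) n).mapIso (inDIso G) ≪≫
    ((DerivedCategory.Q.commShiftIso n).app (one G)).symm) ≪≫ e⟩

end Groth.Agent.H02CA.PtDual
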